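import Cfsg.Agent.Lib.Fusion.OffenderFixed

/-!
Abelian offenders in a group generated by best offenders are elementary abelian.
-/

set_option autoImplicit false
set_option linter.style.haveILetI false

open Cfsg
open scoped commutatorElement

namespace Cfsg.Agent.Solv.AbelianOffenders

open Cfsg.Agent.Fusion

universe u

variable {G : Type u} [Group G] [Finite G] {V H : Subgroup G}

/-- An abelian `2`-group whose measure on `V` bounds that of its subgroups is a best offender, when all best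
offenders of the ambient group lie in `H`. -/
theorem pre_offender (c : OffCtx 2 V H)
    (gen : H = ⨆ A : {A : Subgroup G // A ≤ H ∧ IsBestOffenderOn 2 V A}, (A : Subgroup G))
    (Hb : Subgroup G) (hall : ∀ B ≤ Hb, IsBestOffenderOn 2 V B → B ≤ H)
    (hbH : Hb ≤ Subgroup.normalizer (H : Set G)) (hbV : Hb ≤ Subgroup.normalizer (V : Set G))
    (hbf : Hb ⊓ Subgroup.centralizer (V : Set G) = ⊥) :
    ∀ U ≤ Hb, IsPGroup 2 U → (∀ x ∈ U, ∀ y ∈ U, x * y = y * x) →
      (∀ B ≤ U, offMeasure V B ≤ offMeasure V U) → IsBestOffenderOn 2 V U := by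
  classical
  intro U
  induction hn : Nat.card U using Nat.strong_induction_on generalizing U with
  | _ n ih =>
  intro hUb hU2 hUc hmax
  subst hn
  have hVc : ∀ x ∈ V, ∀ y ∈ V, x * y = y * x := fun x hx y hy => Local.elemAb_commute c.elem hx hy
  have hV2 : IsPGroup 2 V := Local.elemAb_isPGroup c.elem
  have hUV : U ≤ Subgroup.normalizer (V : Set G) := hUb.trans hbV
  have hab : ⁅U, U⁆ ≤ Subgroup.centralizer (V : Set G) := by
    refine Subgroup.commutator_le.2 fun x hx y hy => ?_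
    rw [commutatorElement_eq_one_iff_mul_comm.2 (hUc x hx y hy)]
    exact one_mem _
  refine ⟨hmax, hab, ?_⟩
  rcases eq_or_ne U ⊥ with rfl | hU1
  · intro a ha
    rw [Subgroup.mem_bot.1 ha, one_pow]
    exact one_mem _
  -- the replacement
  obtain ⟨hm, hw⟩ := offMeasure_replacement hVc hUV hab (le_refl V) hmax
  set B := U ⊓ Subgroup.centralizer ((⁅V, U⁆ : Subgroup G) : Set G) with hB
  have hBU : B ≤ U := inf_le_left
  have hB1 : B ≠ ⊥ := by
    intro hB0
    rw [hB0] at hw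
    have hVle : V ≤ ⁅V, U⁆ ⊔ (V ⊓ Subgroup.centralizer (U : Set G)) := by
      rw [← hw]
      refine le_inf le_rfl fun v _ => Subgroup.mem_centralizer_iff.2 fun x hx => ?_
      rw [Subgroup.mem_bot.1 hx, one_mul, mul_one]
    have hVU : ⁅V, U⁆ ≤ V := Subgroup.commutator_le.2 fun x hx a ha => act_comm_mem hUV hx ha
    let K : Subgroup G :=
      { carrier := {v | v ∈ V ∧ ∀ a ∈ U, ⁅v, a⁆ ∈ ⁅⁅V, U⁆, U⁆}
        one_mem' := ⟨one_mem V, fun a _ => by simp⟩
        mul_mem' := fun hx hy => ⟨mul_mem hx.1 hy.1, fun a ha => by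
          rw [act_comm_mul hVc hUV hx.1 hy.1 ha]; exact mul_mem (hx.2 a ha) (hy.2 a ha)⟩
        inv_mem' := fun {x} hx => ⟨inv_mem hx.1, fun a ha => by
          have h3 := act_comm_mul hVc hUV hx.1 (inv_mem hx.1) ha
          rw [mul_inv_cancel, commutatorElement_one_left] at h3
          rw [eq_inv_of_mul_eq_one_right h3.symm]
          exact inv_mem (hx.2 a ha)⟩ }
    have hK : ⁅V, U⁆ ⊔ (V ⊓ Subgroup.centralizer (U : Set G)) ≤ K := by
      refine sup_le (fun v hv => ⟨hVU hv, fun a ha => Subgroup.commutator_mem_commutator hv ha⟩)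
        fun v hv => ⟨hv.1, fun a ha => ?_⟩
      rw [commutatorElement_eq_one_iff_mul_comm.2 (Subgroup.mem_centralizer_iff.1 hv.2 a ha).symm]
      exact one_mem _
    have hX : ⁅V, U⁆ ≤ ⁅⁅V, U⁆, U⁆ :=
      Subgroup.commutator_le.2 fun v hv a ha => ((hVle.trans hK) hv).2 a ha
    have hbot : ⁅V, U⁆ = ⊥ := by
      by_contra hne
      exact not_le_commutator_pgroup (hV2.to_sup_of_normal_left' hU2 hUV) (hVU.trans le_sup_left) hne
        (hX.trans (Subgroup.commutator_mono le_rfl le_sup_right))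
    refine hU1 (eq_bot_iff.2 (hbf ▸ le_inf hUb ?_))
    exact Subgroup.le_centralizer_iff.1 (Subgroup.commutator_eq_bot_iff_le_centralizer.1 hbot)
  have hBoff : IsBestOffenderOn 2 V B := by
    refine ⟨fun C hC => (hmax C (hC.trans hBU)).trans hm.ge,
      (Subgroup.commutator_mono hBU hBU).trans hab, fun b hb => Subgroup.mem_centralizer_iff.2 fun v hv => ?_⟩
    set d := ⁅v, b⁆ with hd
    have hdV : d ∈ V := act_comm_mem hUV hv (hBU hb)
    have hdb : d * b = b * d := Subgroup.mem_centralizer_iff.1 (Subgroup.mem_inf.1 hb).2 d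
      (Subgroup.commutator_mem_commutator hv (hBU hb))
    have hd2 : d * d = 1 := by rw [← pow_two]; exact c.elem.2 d hdV
    have h1 : b * v * b⁻¹ = d⁻¹ * v := by
      have hb' : b * v⁻¹ * b⁻¹ = v⁻¹ * d := by
        rw [hd]; simp [commutatorElement_def, mul_assoc]
      calc b * v * b⁻¹ = (b * v⁻¹ * b⁻¹)⁻¹ := by group
        _ = d⁻¹ * v := by rw [hb']; group
    have h2 : b ^ 2 * v * (b ^ 2)⁻¹ = v := by
      calc b ^ 2 * v * (b ^ 2)⁻¹ = b * (b * v * b⁻¹) * b⁻¹ := by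
            simp only [pow_two, mul_inv_rev, mul_assoc]
        _ = (b * d⁻¹) * v * b⁻¹ := by rw [h1]; group
        _ = d⁻¹ * (b * v * b⁻¹) := by
          rw [show b * d⁻¹ = d⁻¹ * b from ((show Commute d b from hdb).inv_left.eq).symm]; group
        _ = (d * d)⁻¹ * v := by rw [h1]; group
        _ = v := by rw [hd2, inv_one, one_mul]
    calc v * b ^ 2 = b ^ 2 * v * (b ^ 2)⁻¹ * b ^ 2 := by rw [h2]
      _ = b ^ 2 * v := by group
  have hBH : B ≤ H := hall B (hBU.trans hUb) hBoff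
  have hH1 : H ≠ ⊥ := ne_bot_of_le_ne_bot hB1 hBH
  have g : OffGen 2 V H := ⟨c, gen, hH1⟩
  -- a transvection in `B`
  obtain ⟨A, hAB, hAmin⟩ := Finite.exists_le_minimal
    (p := fun A : Subgroup G => A ≤ B ∧ IsBestOffenderOn 2 V A ∧ ⁅V, A⁆ ≠ ⊥) (a := B)
    ⟨le_rfl, hBoff, c.acts_of_ne_bot hBH hB1⟩
  obtain ⟨hA0, hAoff, hAV⟩ := hAmin.1
  have hAH : A ≤ H := hA0.trans hBH
  have hAU : A ≤ U := hA0.trans hBU
  have t := g.tgrp_of_minimal hAH hAoff hAV fun C hC hCoff hCV =>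
    le_antisymm hC (hAmin.2 ⟨hC.trans hA0, hCoff, hCV⟩ hC)
  obtain ⟨x, P⟩ := c.exists_pair t hAH
  -- `U` normalises the plane
  have hcj : ∀ u ∈ U, ∀ w ∈ ⁅V, A⁆ ⊔ ⁅V, cjS x A⁆, u * w * u⁻¹ ∈ ⁅V, A⁆ ⊔ ⁅V, cjS x A⁆ := by
    intro u hu w hw
    rw [← P.comm_eq, P.sup_eq] at hw ⊢
    have huA : A.map (MulAut.conj u).toMonoidHom ≤ A := by
      rintro _ ⟨a, ha, rfl⟩
      show u * a * u⁻¹ ∈ A
      rw [hUc u hu a (hAU ha), mul_inv_cancel_right]; exact ha
    have hle : (⁅V, ⁅coreIn 2 H, A⁆ ⊔ A⁆).map (MulAut.conj u).toMonoidHom ≤ ⁅V, ⁅coreIn 2 H, A⁆ ⊔ A⁆ := by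
      rw [Subgroup.map_commutator, Subgroup.map_sup, Subgroup.map_commutator, map_conj_self (hUV hu)]
      refine Subgroup.commutator_mono le_rfl (sup_le_sup (Subgroup.commutator_mono ?_ huA) huA)
      rintro _ ⟨r, hr, rfl⟩
      exact coreIn_norm (hbH (hUb hu)) hr
    exact hle ⟨w, hw, rfl⟩
  obtain ⟨l, hl, hl1⟩ := (⁅V, A⁆ : Subgroup G).bot_or_exists_ne_one.resolve_left (t.line_ne_bot)
  obtain ⟨w, hw, hw1⟩ := (⁅V, cjS x A⁆ : Subgroup G).bot_or_exists_ne_one.resolve_left (P.tgB.line_ne_bot)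
  obtain ⟨a, ha, ha1⟩ := A.bot_or_exists_ne_one.resolve_left fun h => hAV (by rw [h, Subgroup.commutator_bot_right])
  have hLz : Subgroup.zpowers l = ⁅V, A⁆ := eq_zpowers_of_mem t.comm hl hl1
  have hMz : Subgroup.zpowers w = ⁅V, cjS x A⁆ := eq_zpowers_of_mem P.tgB.comm hw hw1
  have two : ∀ {z : G}, z ∈ V → ∀ {y : G}, y ∈ Subgroup.zpowers z → y = 1 ∨ y = z := by
    intro z hz y hy
    obtain ⟨k, rfl⟩ := hy
    obtain ⟨j, rfl⟩ | ⟨j, rfl⟩ := Int.even_or_odd k
    · left
      show z ^ (j + j) = 1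
      rw [← two_mul, zpow_mul, zpow_ofNat, c.elem.2 z hz, one_zpow]
    · right
      show z ^ (2 * j + 1) = z
      rw [zpow_add, zpow_mul, zpow_ofNat, c.elem.2 z hz, one_zpow, one_mul, zpow_one]
  have hlV : l ∈ V := t.line_le hl
  have hwV : w ∈ V := P.tgB.line_le hw
  have hwnot : ¬ ∀ b ∈ A, w * b = b * w := fun h => hw1 (P.not_fix_line hw h)
  -- each element fixes `w` or does so after multiplying by an element of `A`
  have hplane : ∀ y ∈ ⁅V, A⁆ ⊔ ⁅V, cjS x A⁆, y = 1 ∨ y = l ∨ y = w ∨ y = l * w := by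
    intro y hy
    have hn : ⁅V, A⁆ ≤ Subgroup.normalizer ((⁅V, cjS x A⁆ : Subgroup G) : Set G) := fun y hy =>
      Subgroup.centralizer_le_normalizer _ (Subgroup.mem_centralizer_iff.2 fun z hz =>
        hVc z (P.tgB.line_le hz) y (t.line_le hy))
    obtain ⟨y1, hy1, y2, hy2, rfl⟩ := exists_mul_of_mem_sup hn hy
    rw [← hLz] at hy1
    rw [← hMz] at hy2
    rcases two hlV hy1 with rfl | rfl <;> rcases two hwV hy2 with rfl | rfl <;> simp
  have hul : ∀ u ∈ U, u * l * u⁻¹ = l := by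
    intro u hu
    have hm : u * l * u⁻¹ ∈ ⁅V, A⁆ := by
      have hle : (⁅V, A⁆ : Subgroup G).map (MulAut.conj u).toMonoidHom ≤ ⁅V, A⁆ := by
        rw [Subgroup.map_commutator, map_conj_self (hUV hu)]
        refine Subgroup.commutator_mono le_rfl ?_
        rintro _ ⟨b, hb, rfl⟩
        show u * b * u⁻¹ ∈ A
        rw [hUc u hu b (hAU hb), mul_inv_cancel_right]; exact hb
      exact hle ⟨l, hl, rfl⟩
    rw [← hLz] at hm
    rcases two hlV hm with h | h
    · exact absurd (conj_eq_one_iff.1 h) hl1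
    · exact h
  have huw : ∀ u ∈ U, u * w * u⁻¹ = w ∨ u * w * u⁻¹ = l * w := by
    intro u hu
    rcases hplane _ (hcj u hu w (Subgroup.mem_sup_right hw)) with h | h | h | h
    · exact absurd (conj_eq_one_iff.1 h) hw1
    · exfalso
      have he : w = l := by
        calc w = u⁻¹ * (u * w * u⁻¹) * u := by group
          _ = u⁻¹ * (u * l * u⁻¹) * u := by rw [h, hul u hu]
          _ = l := by group
      subst he
      exact hwnot fun b hb => mul_inv_eq_iff_eq_mul.1 (hul b (hAU hb)) |>.symm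
    · exact Or.inl h
    · exact Or.inr h
  have haw : a * w * a⁻¹ = l * w := by
    refine (huw a (hAU ha)).resolve_left fun h => hwnot fun b hb => ?_
    have hza : Subgroup.zpowers a = A := eq_zpowers_of_mem t.card ha ha1
    rw [← hza] at hb
    obtain ⟨k, rfl⟩ := hb
    exact (((show Commute a w from mul_inv_eq_iff_eq_mul.1 h).zpow_left k).eq).symm
  set U₁ := U ⊓ Subgroup.centralizer ({w} : Set G) with hU₁
  have hmem : ∀ u ∈ U, u * w * u⁻¹ = w → u ∈ U₁ := fun u hu h => Subgroup.mem_inf.2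
    ⟨hu, Subgroup.mem_centralizer_singleton_iff.2 (mul_inv_eq_iff_eq_mul.1 h)⟩
  have hdec : ∀ u ∈ U, u ∈ U₁ ∨ a * u ∈ U₁ := by
    intro u hu
    rcases huw u hu with h | h
    · exact Or.inl (hmem u hu h)
    · refine Or.inr (hmem _ (mul_mem (hAU ha) hu) ?_)
      have hl2 : l * l = 1 := by rw [← pow_two]; exact c.elem.2 l hlV
      calc a * u * w * (a * u)⁻¹ = a * (u * w * u⁻¹) * a⁻¹ := by group
        _ = (a * l * a⁻¹) * (a * w * a⁻¹) := by rw [h]; group
        _ = l * (l * w) := by rw [hul a (hAU ha), haw]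
        _ = w := by rw [← mul_assoc, hl2, one_mul]
  have haU₁ : a ∉ U₁ := fun h => by
    have h2 := Subgroup.mem_centralizer_singleton_iff.1 (Subgroup.mem_inf.1 h).2
    rw [h2, mul_inv_cancel_right] at haw
    exact hl1 (mul_eq_right.1 haw.symm)
  have hcard : Nat.card U ≤ 2 * Nat.card U₁ := by
    have hex : ∀ u : U, ∃ q : Bool × U₁, (if q.1 then a⁻¹ * (q.2 : G) else (q.2 : G)) = u := by
      intro u
      rcases hdec u u.2 with h | h
      · exact ⟨(false, ⟨_, h⟩), rfl⟩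
      · exact ⟨(true, ⟨_, h⟩), by simp⟩
    choose f hf using hex
    have hfi : Function.Injective f := fun u v h => Subtype.ext (by rw [← hf u, ← hf v, h])
    refine (Nat.card_le_card_of_injective f hfi).trans_eq ?_
    rw [Nat.card_prod]
    simp
  have hlt : Nat.card U₁ < Nat.card U := Solv.card_lt_of_lt (lt_of_le_of_ne inf_le_left fun h =>
    haU₁ (h ▸ hAU ha))
  have hfix : 2 * Nat.card ↥(V ⊓ Subgroup.centralizer (U : Set G)) ≤
      Nat.card ↥(V ⊓ Subgroup.centralizer (U₁ : Set G)) := by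
    refine mul_card_le_of_lt (hV2.to_le inf_le_left) (lt_of_le_of_ne
      (inf_le_inf_left _ (Subgroup.centralizer_le (SetLike.coe_subset_coe.2 inf_le_left))) fun h => ?_)
    have hwU₁ : w ∈ V ⊓ Subgroup.centralizer (U₁ : Set G) :=
      ⟨hwV, Subgroup.mem_centralizer_iff.2 fun u hu =>
        Subgroup.mem_centralizer_singleton_iff.1 (Subgroup.mem_inf.1 hu).2⟩
    rw [← h] at hwU₁
    exact hwnot fun b hb => (Subgroup.mem_centralizer_iff.1 hwU₁.2 b (hAU hb)).symm
  have hoff₁ : IsBestOffenderOn 2 V U₁ := by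
    refine ih _ hlt U₁ rfl (inf_le_left.trans hUb) (hU2.to_le inf_le_left)
      (fun y hy z hz => hUc y (Subgroup.mem_inf.1 hy).1 z (Subgroup.mem_inf.1 hz).1) fun C hC => ?_
    calc offMeasure V C ≤ offMeasure V U := hmax C (hC.trans inf_le_left)
      _ ≤ (2 * Nat.card U₁) * Nat.card ↥(V ⊓ Subgroup.centralizer (U : Set G)) := Nat.mul_le_mul_right _ hcard
      _ = Nat.card U₁ * (2 * Nat.card ↥(V ⊓ Subgroup.centralizer (U : Set G))) := by ring
      _ ≤ offMeasure V U₁ := Nat.mul_le_mul_left _ hfix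
  intro u hu
  rcases hdec u hu with h | h
  · exact hoff₁.2.2 u h
  · have h1 := hoff₁.2.2 _ h
    rwa [(show Commute a u from hUc a (hAU ha) u hu).mul_pow, t.pow_eq ha, one_mul] at h1

end Cfsg.Agent.Solv.AbelianOffenders
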