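import Cfsg.Agent.Lib.Solv.AbelianOffenders.Elementary
import Cfsg.Agent.Lib.Fusion.ActModel
import Cfsg.Agent.Lib.Fusion.WeakClosedElements
import Cfsg.Agent.Lib.Char.ItoConverse
import Cfsg.Agent.Lib.LocalEven.Reduced
import Cfsg.Agent.Lib.Solv.Cores
import Cfsg.Agent.Lib.Solv.SetMul
import Cfsg.Agent.Lib.Lead.ProjLine
import Cfsg.Agent.S0617

/-!
The Thompson subgroup for abelian subgroups in a solvable group with `F(X) = O₂(X)`.
-/

set_option autoImplicit false
set_option linter.style.haveILetI false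

open Cfsg

namespace Cfsg.Agent.Solv.AbelianOffenders

open Cfsg.Agent.Fusion

universe u

variable {X : Type u} [Group X]

/-- An element of odd order fixing the involutions of a normal abelian `2`-group fixes the group. -/
theorem odd_fix {Z : Subgroup X} [hn : Z.Normal] (hZc : ∀ a ∈ Z, ∀ b ∈ Z, a * b = b * a)
    {d : X} (hd : Odd (orderOf d)) (hfix : ∀ z ∈ Z, z ^ 2 = 1 → d * z = z * d) :
    ∀ (k : ℕ), ∀ z ∈ Z, z ^ 2 ^ k = 1 → d * z = z * d := by
  intro k
  induction k with
  | zero =>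
    intro z _ h
    rw [pow_zero, pow_one] at h
    rw [h, one_mul, mul_one]
  | succ k ih =>
    intro z hz h
    have h2 : d * z ^ 2 = z ^ 2 * d := ih _ (pow_mem hz 2) (by rw [← pow_mul, ← pow_succ']; exact h)
    set e := z⁻¹ * (d * z * d⁻¹) with he
    have heZ : e ∈ Z := mul_mem (inv_mem hz) (hn.conj_mem z hz d)
    have he2 : e ^ 2 = 1 := by
      rw [he, (show Commute z⁻¹ (d * z * d⁻¹) from hZc _ (inv_mem hz) _ (hn.conj_mem z hz d)).mul_pow,
        conj_pow, h2, mul_inv_cancel_right, inv_pow, inv_mul_cancel]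
    have hde : d * e = e * d := hfix e heZ he2
    have hze : d * z * d⁻¹ = z * e := by rw [he, mul_inv_cancel_left]
    have hn' : ∀ n : ℕ, d ^ n * z * (d ^ n)⁻¹ = z * e ^ n := by
      intro n
      induction n with
      | zero => simp
      | succ n ihn =>
        calc d ^ (n + 1) * z * (d ^ (n + 1))⁻¹ = d * (d ^ n * z * (d ^ n)⁻¹) * d⁻¹ := by
              rw [pow_succ']; simp only [mul_inv_rev, mul_assoc]
          _ = (d * z * d⁻¹) * (d * e ^ n * d⁻¹) := by rw [ihn]; group
          _ = z * e ^ (n + 1) := by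
            rw [hze, ((show Commute d e from hde).pow_right n).eq, mul_inv_cancel_right, pow_succ', mul_assoc]
    have h1 := hn' (orderOf d)
    rw [pow_orderOf_eq_one, one_mul, inv_one, mul_one] at h1
    obtain ⟨m, hm⟩ := hd
    rw [hm, pow_succ, pow_mul, he2, one_pow, one_mul] at h1
    rw [← h1] at hze
    exact mul_inv_eq_iff_eq_mul.1 hze

/-- Conjugates of best offenders. -/
theorem offender_cj {p : ℕ} {V A : Subgroup X} {g : X} (hg : g ∈ Subgroup.normalizer (V : Set X))
    (hA : IsBestOffenderOn p V A) : IsBestOffenderOn p V (cj A g) := by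
  have hfix : ∀ B : Subgroup X, V ⊓ Subgroup.centralizer (cj B g : Set X) =
      cj (V ⊓ Subgroup.centralizer (B : Set X)) g := fun B => by
    rw [cj_inf, cj_centralizer, cj_eq_self hg]
  have hC : cj (Subgroup.centralizer (V : Set X)) g ≤ Subgroup.centralizer (V : Set X) := by
    rw [cj_centralizer, cj_eq_self hg]
  refine ⟨fun B hB => ?_, ?_, ?_⟩
  · have hB' : cj B g⁻¹ ≤ A := by
      refine (cj_mono hB g⁻¹).trans ?_
      rw [cj_cj, inv_mul_cancel]
      rintro _ ⟨a, ha, rfl⟩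
      simpa using ha
    have e : cj (cj B g⁻¹) g = B := by
      rw [cj_cj, mul_inv_cancel]
      ext x
      simp [Subgroup.mem_map]
    have h := hA.1 _ hB'
    rw [← e, hfix, hfix]
    simp only [card_cj] at h ⊢
    exact h
  · rw [← Subgroup.map_commutator]
    exact (cj_mono hA.2.1 g).trans hC
  · rintro _ ⟨a, ha, rfl⟩
    rw [← map_pow]
    exact hC ⟨_, hA.2.2 a ha, rfl⟩

variable [Finite X]

/-- The factorization and the structure of the image of the normal closure of `J(T)`. -/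
theorem main (hsol : Group.IsSolvable X) (hF : Cfsg.fittingSubgroup X = Cfsg.pCore 2 X) (T : Sylow 2 X) :
    ((Subgroup.centralizer (((T : Subgroup X) ⊓ Subgroup.centralizer ((T : Subgroup X) : Set X) : Subgroup X) : Set X)).normalCore
        ⊔ Subgroup.normalClosure (Cfsg.thompsonSubgroupAOf (T : Subgroup X) : Set X)
        ⊔ Subgroup.normalizer (Cfsg.thompsonSubgroupAOf (T : Subgroup X) : Set X) = ⊤) ∧
    (Subgroup.normalClosure (Cfsg.thompsonSubgroupAOf (T : Subgroup X) : Set X)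
        ≤ (Subgroup.centralizer (((T : Subgroup X) ⊓ Subgroup.centralizer ((T : Subgroup X) : Set X) : Subgroup X) : Set X)).normalCore
      ∨ ∃ n : ℕ, 1 ≤ n ∧
        Nonempty (↥(Subgroup.normalClosure (Cfsg.thompsonSubgroupAOf (T : Subgroup X) : Set X)) ⧸
            ((Subgroup.centralizer (((T : Subgroup X) ⊓ Subgroup.centralizer ((T : Subgroup X) : Set X) : Subgroup X) : Set X)).normalCore).subgroupOf
              (Subgroup.normalClosure (Cfsg.thompsonSubgroupAOf (T : Subgroup X) : Set X))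
          ≃* (Fin n → Equiv.Perm (Fin 3)))) := by
  classical
  set ok := fun A : Subgroup X => IsMulCommutative A
  have hok : ReplFamily ok := replFamily_comm
  set J := thompsonSubgroupAOf (T : Subgroup X) with hJ
  have hJs : J = sSup (maxIn ok (T : Subgroup X)) := thompsonA_eq_sSup _
  set Y := Subgroup.normalClosure (J : Set X) with hY
  have hAY : ∀ A ∈ maxIn ok (T : Subgroup X), A ≤ Y := fun A hA =>
    ((le_sSup hA).trans_eq hJs.symm).trans Subgroup.le_normalClosure
  refine ⟨?_, ?_⟩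
  · -- the Frattini argument
    refine eq_top_iff.2 fun g _ => ?_
    have hP : SylIn 2 ((T : Subgroup X) ⊓ Y) Y :=
      (sylIn_top T).inf_normal le_top (by rw [Subgroup.normalizer_eq_top])
    obtain ⟨y, hy, hyg⟩ := frattini_conj hP (H := ⊤) (by rw [Subgroup.normalizer_eq_top]) (Subgroup.mem_top g)
    have hmax : maxIn ok ((T : Subgroup X) ⊓ Y) = maxIn ok (T : Subgroup X) :=
      maxIn_eq_of_le hok inf_le_left fun A hA => le_inf hA.1 (hAY A hA)
    have hN : y * g ∈ Subgroup.normalizer (J : Set X) := by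
      refine mem_normalizer_of_cj_le ?_
      rw [hJs, ← hmax, cj, sSup_eq_iSup, Subgroup.map_iSup]
      refine iSup_le fun A => ?_
      rw [Subgroup.map_iSup]
      refine iSup_le fun hA => ?_
      have h := hok.map_mem_maxIn hA (MulAut.conj (y * g))
      rw [show ((T : Subgroup X) ⊓ Y).map (MulAut.conj (y * g)).toMonoidHom = (T : Subgroup X) ⊓ Y from
        cj_eq_self hyg] at h
      exact le_iSup₂_of_le _ h le_rfl
    rw [show g = y⁻¹ * (y * g) from (inv_mul_cancel_left y g).symm]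
    exact mul_mem (Subgroup.mem_sup_left (Subgroup.mem_sup_right (inv_mem hy))) (Subgroup.mem_sup_right hN)
  -- the central module
  set Zt := (T : Subgroup X) ⊓ Subgroup.centralizer ((T : Subgroup X) : Set X) with hZt
  set Q := pCore 2 X with hQ
  haveI : Q.Normal := Solv.pCore_normal 2
  have hQT : Q ≤ (T : Subgroup X) := pCore_le_sylow T
  have hZtQ : Zt ≤ Q ⊓ Subgroup.centralizer (Q : Set X) := by
    have h1 : Zt ≤ Subgroup.centralizer (Q : Set X) := inf_le_right.trans (Subgroup.centralizer_le hQT)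
    refine le_inf (h1.trans ?_) h1
    have h2 := Solv.centralizer_fitting_le hsol
    rwa [hF] at h2
  set Z := Subgroup.normalClosure (Zt : Set X) with hZ
  haveI hQc : (Q ⊓ Subgroup.centralizer (Q : Set X)).Normal := inferInstance
  have hZQ : Z ≤ Q ⊓ Subgroup.centralizer (Q : Set X) := Subgroup.normalClosure_le_normal hZtQ
  have hZc : ∀ a ∈ Z, ∀ b ∈ Z, a * b = b * a := fun a ha b hb =>
    Subgroup.mem_centralizer_iff.1 (Subgroup.mem_inf.1 (hZQ hb)).2 a (Subgroup.mem_inf.1 (hZQ ha)).1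
  have hZ2 : IsPGroup 2 Z := (isPGroup_pCore 2 X).to_le (hZQ.trans inf_le_left)
  have hC0 : (Subgroup.centralizer (Zt : Set X)).normalCore = Subgroup.centralizer (Z : Set X) := by
    refine le_antisymm ?_ (Subgroup.normal_le_normalCore.2 (Subgroup.centralizer_le Subgroup.le_normalClosure))
    rw [Subgroup.le_centralizer_iff]
    exact Subgroup.normalClosure_le_normal
      (Subgroup.le_centralizer_iff.1 (Subgroup.normalCore_le _))
  suffices key : ∀ (D : Subgroup X) [D.Normal], D = Subgroup.centralizer (Z : Set X) →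
      (Y ≤ D ∨ ∃ n : ℕ, 1 ≤ n ∧ Nonempty (↥Y ⧸ D.subgroupOf Y ≃* (Fin n → Equiv.Perm (Fin 3)))) from key _ hC0
  intro D _ hD
  subst hD
  set C := Subgroup.centralizer (Z : Set X) with hC
  -- no normal `2`-group over the centralizer
  have hgen : Z ≤ ⨆ S : Sylow 2 X, Z ⊓ Subgroup.centralizer ((S : Subgroup X) : Set X) := by
    refine (Subgroup.closure_le _).2 fun x hx => ?_
    obtain ⟨z, hz, hc⟩ := Group.mem_conjugatesOfSet_iff.1 hx
    obtain ⟨g, rfl⟩ := isConj_iff.1 hc
    refine Subgroup.mem_iSup_of_mem (g • T) ⟨?_, Subgroup.mem_centralizer_iff.2 fun s hs => ?_⟩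
    · exact (inferInstance : Z.Normal).conj_mem z (Subgroup.le_normalClosure hz) g
    · rw [Sylow.coe_subgroup_smul] at hs
      obtain ⟨t, ht, rfl⟩ := hs
      show MulAut.conj g t * MulAut.conj g z = MulAut.conj g z * MulAut.conj g t
      rw [← map_mul, ← map_mul, Subgroup.mem_centralizer_iff.1 hz.2 t ht]
  have hmod : ∀ D : Subgroup X, D.Normal → C ≤ D → LocalEven.Red.PMod 2 D C → D = C := by
    intro D hD hle hpm
    haveI := hD
    refine eq_centralizer_of_generated_fixed hgen hle ?_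
    have h1 : IsPGroup 2 (D.map (QuotientGroup.mk' C)) := by
      rintro ⟨_, x, hx, rfl⟩
      obtain ⟨k, hk⟩ := hpm x hx
      refine ⟨k, Subtype.ext ?_⟩
      show (QuotientGroup.mk' C x) ^ 2 ^ k = 1
      rw [← map_pow]; exact (QuotientGroup.eq_one_iff _).2 hk
    obtain ⟨k, hk⟩ := IsPGroup.iff_card.1 h1
    exact ⟨k, by rw [← hk, ← Subgroup.relIndex_ker, QuotientGroup.ker_mk']⟩
  set W := omegaOne 2 Z with hW
  have hWZ : W ≤ Z := (Subgroup.closure_le _).2 fun _ hx => hx.1
  haveI hWn : W.Normal := by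
    refine normal_iff_cj.2 fun g => cj_eq_of_cj_le ?_
    rw [show cj W g = _ from omegaOne_map _ Z (MulAut.conj g).injective.injOn,
      show Z.map (MulAut.conj g).toMonoidHom = Z from cj_eq_self (by rw [Subgroup.normalizer_eq_top]; trivial)]
  have hWel : IsElementaryAbelian 2 W := by
    refine ⟨⟨⟨fun a b => Subtype.ext (hZc a (hWZ a.2) b (hWZ b.2))⟩⟩, fun x hx => ?_⟩
    induction hx using Subgroup.closure_induction with
    | mem x hx => exact hx.2
    | one => exact one_pow 2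
    | mul a b ha hb iha ihb =>
      rw [(show Commute a b from hZc a (hWZ ha) b (hWZ hb)).mul_pow, iha, ihb, one_mul]
    | inv a _ iha => rw [inv_pow, iha, inv_one]
  have hCW : Subgroup.centralizer (W : Set X) = C := by
    refine hmod _ (Subgroup.normal_centralizer (H := W)) (Subgroup.centralizer_le hWZ) fun x hx => ?_
    obtain ⟨k, m, hm, hkm⟩ := Nat.exists_eq_pow_mul_and_not_dvd (orderOf_pos x).ne' 2 (by norm_num)
    refine ⟨k, Subgroup.mem_centralizer_iff.2 fun z hz => ?_⟩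
    obtain ⟨j, hj⟩ := hZ2 ⟨z, hz⟩
    refine (odd_fix hZc ?_ ?_ j z hz (congrArg Subtype.val hj)).symm
    · rw [orderOf_pow_of_dvd (pow_ne_zero _ (by norm_num)) (hkm ▸ dvd_mul_right _ _), hkm,
        Nat.mul_div_cancel_left _ (pow_pos (by norm_num) k)]
      exact Nat.odd_iff.2 (Nat.two_dvd_ne_zero.1 hm)
    · intro w hw hw2
      exact (Subgroup.mem_centralizer_iff.1 (pow_mem hx _) w (Subgroup.subset_closure ⟨hw, hw2⟩)).symm
  have hO : pCore 2 (X ⧸ Subgroup.centralizer (W : Set X)) = ⊥ := by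
    rw [LocalEven.Red.pCore_quotient_bot_iff]
    intro M hM hp
    haveI := hM
    rw [hCW] at hp ⊢
    have hCn : C.Normal := Subgroup.normal_centralizer (H := Z)
    refine le_sup_left.trans_eq (hmod (M ⊔ C) inferInstance le_sup_right fun x hx => ?_)
    obtain ⟨m, hm, c, hc, rfl⟩ := Subgroup.mem_sup_of_normal_right.1 hx
    obtain ⟨k, hk⟩ := hp m hm
    refine ⟨k, (QuotientGroup.eq_one_iff _).1 ?_⟩
    rw [QuotientGroup.mk_pow, QuotientGroup.mk_mul, (QuotientGroup.eq_one_iff c).2 hc, mul_one,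
      ← QuotientGroup.mk_pow]
    exact (QuotientGroup.eq_one_iff _).2 hk
  -- the model
  set f := ActModel.proj W
  set Vb := (ActModel.incl W).range
  set Yb := Y.map f with hYb
  set S := ⨆ A : {A : Subgroup (ActModel.Ω W) // A ≤ Yb ∧ IsBestOffenderOn 2 Vb A},
    (A : Subgroup (ActModel.Ω W)) with hS
  have hYbn : ∀ g : X, cj Yb (f g) = Yb := fun g => by
    rw [hYb, cj, Subgroup.map_map, show (MulAut.conj (f g)).toMonoidHom.comp f = f.comp (MulAut.conj g).toMonoidHom from
      MonoidHom.ext fun x => by simp, ← Subgroup.map_map,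
      show Y.map (MulAut.conj g).toMonoidHom = Y from cj_eq_self (by rw [Subgroup.normalizer_eq_top]; trivial)]
  have hSn : ∀ g : X, f g ∈ Subgroup.normalizer (S : Set (ActModel.Ω W)) := fun g => by
    refine mem_normalizer_of_cj_le ?_
    rw [hS, cj, Subgroup.map_iSup]
    refine iSup_le fun A => le_iSup_of_le ⟨cj (A : Subgroup _) (f g), ?_, ?_⟩ le_rfl
    · exact (cj_mono A.2.1 _).trans_eq (hYbn g)
    · exact offender_cj (ActModel.norm W ⟨g, rfl⟩) A.2.2
  haveI hK : (S.comap f).Normal := ⟨fun x hx g => by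
    show f (g * x * g⁻¹) ∈ S
    rw [map_mul, map_mul, map_inv]
    exact (Subgroup.mem_normalizer_iff.1 (hSn g) _).1 hx⟩
  have hSY : S ≤ Yb := iSup_le fun A => A.2.1
  have hSmap : (S.comap f).map f = S :=
    Subgroup.map_comap_eq_self (hSY.trans (Subgroup.map_le_range f Y))
  have c : OffCtx 2 Vb S := by
    have c' := ActModel.ctx W (Char.isPSolvable_of_isSolvable Nat.prime_two _ rfl hsol) hWel hO (S.comap f)
    rwa [hSmap] at c'
  have gen : S = ⨆ A : {A : Subgroup (ActModel.Ω W) // A ≤ S ∧ IsBestOffenderOn 2 Vb A},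
      (A : Subgroup (ActModel.Ω W)) :=
    le_antisymm (iSup_le fun A => le_iSup_of_le ⟨(A : Subgroup _),
      le_iSup (fun B : {A : Subgroup (ActModel.Ω W) // A ≤ Yb ∧ IsBestOffenderOn 2 Vb A} =>
        (B : Subgroup (ActModel.Ω W))) A, A.2.2⟩ le_rfl) (iSup_le fun A => A.2.1)
  have hoff : ∀ A ∈ maxIn ok (T : Subgroup X), IsBestOffenderOn 2 Vb (A.map f) := by
    intro A hA
    have hAc : ∀ x ∈ A, ∀ y ∈ A, x * y = y * x := fun x hx y hy =>
      congrArg Subtype.val (hA.2.1.1.1 ⟨x, hx⟩ ⟨y, hy⟩)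
    have hr : A.map f ≤ f.range := Subgroup.map_le_range f A
    refine pre_offender c gen (A.map f) (fun B hB hBo => le_iSup_of_le ⟨B, hB.trans (Subgroup.map_mono (hAY A hA)), hBo⟩ le_rfl)
      ?_ (hr.trans (ActModel.norm W)) (le_bot_iff.1 ((inf_le_inf_right _ hr).trans_eq (ActModel.range_inf_fix W)))
      (A.map f) le_rfl ((T.isPGroup'.to_le hA.1).map f) ?_ ?_
    · rintro _ ⟨a, _, rfl⟩
      exact hSn a
    · rintro _ ⟨x, hx, rfl⟩ _ ⟨y, hy, rfl⟩
      rw [← map_mul, ← map_mul, hAc x hx y hy]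
    intro B hB
    set B₀ := A ⊓ B.comap f with hB₀
    have hB₀A : B₀ ≤ A := inf_le_left
    have hmap : B₀.map f = B := by
      refine le_antisymm (by rintro _ ⟨a, ha, rfl⟩; exact ha.2) fun b hb => ?_
      obtain ⟨a, ha, rfl⟩ := hB hb
      exact ⟨a, ⟨ha, hb⟩, rfl⟩
    have hinf : B₀ ⊓ Subgroup.centralizer (W : Set X) = A ⊓ Subgroup.centralizer (W : Set X) := by
      refine le_antisymm (inf_le_inf_right _ hB₀A) (le_inf (le_inf inf_le_left fun g hg => ?_) inf_le_right)
      show f g ∈ B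
      rw [(ActModel.proj_eq_one W).2 (Subgroup.mem_inf.1 hg).2]
      exact one_mem B
    set F := W ⊓ Subgroup.centralizer (B₀ : Set X) with hFdef
    have hFT : F ≤ (T : Subgroup X) := inf_le_left.trans (hWZ.trans ((hZQ.trans inf_le_left).trans hQT))
    have hcomm : IsMulCommutative (B₀ ⊔ F : Subgroup X) :=
      comm_sup (fun a ha b hb => hAc a (hB₀A ha) b (hB₀A hb))
        (fun a ha b hb => hZc a (hWZ ha.1) b (hWZ hb.1))
        (fun a ha b hb => Subgroup.mem_centralizer_iff.1 hb.2 a ha)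
    have h1 : Nat.card B₀ * Nat.card F ≤ Nat.card A * Nat.card ↥(W ⊓ Subgroup.centralizer (A : Set X)) := by
      rw [← Solv.card_mul_set_mul_card_inf]
      refine Nat.mul_le_mul ?_ (Subgroup.card_le_of_le ?_)
      · refine le_trans ?_ (hA.2.2 _ (sup_le (hB₀A.trans hA.1) hFT) hcomm)
        refine Nat.card_mono (Set.toFinite _) ?_
        rintro _ ⟨a, ha, b, hb, rfl⟩
        exact mul_mem (Subgroup.mem_sup_left ha) (Subgroup.mem_sup_right hb)
      · rintro x ⟨hxB, hxF⟩
        exact ⟨hxF.1, Subgroup.mem_centralizer_iff.2 fun a ha => hAc a ha x (hB₀A hxB)⟩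
    rw [← ActModel.card_map W B₀, ← ActModel.card_map W A, hinf, hmap] at h1
    rw [offMeasure, offMeasure, show Nat.card ↥(Vb ⊓ Subgroup.centralizer (B : Set (ActModel.Ω W))) =
      Nat.card F by rw [← hmap, ActModel.card_fix], ActModel.card_fix]
    refine Nat.le_of_mul_le_mul_left ?_ (Nat.card_pos (α := ↥(A ⊓ Subgroup.centralizer (W : Set X))))
    calc _ = Nat.card B * Nat.card ↥(A ⊓ Subgroup.centralizer (W : Set X)) * Nat.card F := by ring
      _ ≤ _ := h1
      _ = _ := by ring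
  have hYS : S = Yb := by
    refine le_antisymm hSY (Subgroup.map_le_iff_le_comap.2 (Subgroup.normalClosure_le_normal ?_))
    rw [hJs]
    refine sSup_le fun A hA => Subgroup.map_le_iff_le_comap.1 ?_
    exact le_iSup_of_le ⟨A.map f, Subgroup.map_mono (hAY A hA), hoff A hA⟩ le_rfl
  by_cases h0 : Y ≤ C
  · exact Or.inl h0
  right
  have hS1 : S ≠ ⊥ := fun h => h0 (by
    rw [← hCW, ← ActModel.ker_proj, ← Subgroup.map_eq_bot_iff]
    exact hYS.symm.trans h)
  obtain ⟨-, hfac, hind, hsup, -, -⟩ := S0617.result Vb S c.elem c.norm c.faithful c.core gen hS1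
  set ι := {E : Subgroup (ActModel.Ω W) // ∃ A : Subgroup (ActModel.Ω W), A ≤ S ∧ IsBestOffenderOn 2 Vb A ∧
    ⁅Vb, A⁆ ≠ ⊥ ∧ (∀ B : Subgroup (ActModel.Ω W), B ≤ A → IsBestOffenderOn 2 Vb B → ⁅Vb, B⁆ ≠ ⊥ → B = A) ∧
      E = ⁅((pPrimeCore 2 ↥S).map S.subtype), A⁆ ⊔ A}
  obtain ⟨n, ⟨e⟩⟩ : ∃ n, Nonempty (ι ≃ Fin n) := ⟨_, ⟨Finite.equivFin ι⟩⟩
  set E : Fin n → Subgroup (ActModel.Ω W) := fun i => (e.symm i : ι).1 with hE
  have hEsup : ⨆ i, E i = S := by
    rw [← hsup]
    exact Equiv.iSup_comp (g := fun E : ι => (E : Subgroup (ActModel.Ω W))) e.symm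
  have hEind : iSupIndep E := hind.comp e.symm.injective
  have hEle : ∀ i, E i ≤ S := fun i => (le_iSup E i).trans_eq hEsup
  have hcomm : Pairwise fun i j => ∀ x y : ActModel.Ω W, x ∈ E i → y ∈ E j → Commute x y := by
    intro i j hij x y hx hy
    have hxi : y * x⁻¹ * y⁻¹ ∈ E i :=
      (Subgroup.mem_normalizer_iff.1 ((hfac (e.symm i)).1 (hEle j hy)) _).1 (inv_mem hx)
    have hyj : x * y * x⁻¹ ∈ E j :=
      (Subgroup.mem_normalizer_iff.1 ((hfac (e.symm j)).1 (hEle i hx)) _).1 hy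
    have h1 : x * y * x⁻¹ * y⁻¹ ∈ E i ⊓ E j := by
      refine Subgroup.mem_inf.2 ⟨?_, mul_mem hyj (inv_mem hy)⟩
      rw [show x * y * x⁻¹ * y⁻¹ = x * (y * x⁻¹ * y⁻¹) by group]
      exact mul_mem hx hxi
    rw [(hEind.pairwiseDisjoint hij).eq_bot, Subgroup.mem_bot] at h1
    exact mul_inv_eq_iff_eq_mul.1 (mul_inv_eq_one.1 h1)
  have hS3 : ∀ i, Nonempty (↥(E i) ≃* Equiv.Perm (Fin 3)) := fun i => by
    obtain ⟨h⟩ := (hfac (e.symm i)).2.1
    obtain ⟨h'⟩ := Lead.ProjLine.sl22 (F := ZMod 2) (ZMod.card 2)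
    exact ⟨h.trans h'⟩
  have hprod : Nonempty ((∀ i, ↥(E i)) ≃* ↥S) := by
    refine ⟨(MonoidHom.ofInjective (Subgroup.injective_noncommPiCoprod_of_iSupIndep (hcomm := hcomm) hEind)).trans
      (MulEquiv.subgroupCongr ?_)⟩
    rw [Subgroup.noncommPiCoprod_range, hEsup]
  obtain ⟨ep⟩ := hprod
  refine ⟨n, ?_, ⟨(((QuotientGroup.quotientMulEquivOfEq ?_).trans
    (QuotientGroup.quotientKerEquivRange (f.comp Y.subtype))).trans
      (MulEquiv.subgroupCongr ?_)).trans (ep.symm.trans (MulEquiv.piCongrRight fun i => (hS3 i).some))⟩⟩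
  · rcases Nat.eq_zero_or_pos n with rfl | hn
    · exact absurd (hEsup.symm.trans (by simp)) hS1
    · exact hn
  · rw [← MonoidHom.comap_ker, ActModel.ker_proj, hCW]; rfl
  · rw [MonoidHom.range_comp, Subgroup.range_subtype, hYS]

end Cfsg.Agent.Solv.AbelianOffenders
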